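import Mathlib
import Groth.Agent.EtMV.ConstSect
import Groth.Agent.EtMV.LocIsoFlasque

/-!
Sections of constant etale sheaves as locally constant functions.
-/

universe u

open CategoryTheory CategoryTheory.Limits AlgebraicGeometry Opposite

set_option backward.isDefEq.respectTransparency false
set_option backward.isDefEq.respectTransparency.types false

noncomputable section

namespace Groth.Agent.EtEmbFin

open Groth.Agent.EtMV

/-- Restriction of sections. -/
local notation "rs" => Groth.Agent.EtFLC.res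

variable {X : Scheme.{u}} {M : Type} [AddCommGroup M]

theorem valAt_mem_range {W Z : X.Etale} {s : EtCoh.sect (EtCoh.const X M) W} {h : Z ⟶ W} {m : M}
    (e : rs _ h s = cst Z m) {w : W.left} (hw : w ∈ Set.range h.left) : valAt s w = m := by
  obtain ⟨z, rfl⟩ := hw
  exact valAt_eq z e

theorem isLocallyConstant_valAt {W : X.Etale} (s : EtCoh.sect (EtCoh.const X M) W) :
    IsLocallyConstant (valAt s) := by
  rw [IsLocallyConstant.iff_exists_open]
  intro w
  obtain ⟨Z, h, z, m, rfl, e⟩ := exists_cst s w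
  haveI : Etale h.left := EtSect.etale_left h
  exact ⟨Set.range h.left, h.left.isOpenMap.isOpen_range, ⟨z, rfl⟩,
    fun w hw => (valAt_mem_range e hw).trans (valAt_eq z e).symm⟩

theorem ext_val {W : X.Etale} {s t : EtCoh.sect (EtCoh.const X M) W}
    (h : ∀ w : W.left, valAt s w = valAt t w) : s = t := by
  refine EtFLC.sect_ext _ fun w => ?_
  obtain ⟨Z₁, h₁, z₁, m₁, hz₁, e₁⟩ := exists_cst s w
  obtain ⟨Z₂, h₂, z₂, m₂, hz₂, e₂⟩ := exists_cst t w
  obtain ⟨T, a, b, t₀, hab, hta⟩ := exists_refinement h₁ h₂ z₁ z₂ (hz₁.trans hz₂.symm)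
  refine ⟨T, a ≫ h₁, t₀, by rw [EtFLC.comp_left_apply, hta, hz₁], ?_⟩
  rw [← EtFLC.res_res, e₁, res_cst, hab, ← EtFLC.res_res, e₂, res_cst]
  have := h w
  rw [← hz₁, valAt_eq z₁ e₁, hz₁, ← hz₂, valAt_eq z₂ e₂] at this
  rw [this]

theorem cst_add (W : X.Etale) (m n : M) : cst W (m + n) = cst W m + cst W n :=
  map_add ((toSheafify X.smallEtaleTopology (cPre0 X M)).app (op W)).hom (⟨m⟩ : ULift.{u + 1} M) ⟨n⟩

theorem valAt_add {W : X.Etale} (s t : EtCoh.sect (EtCoh.const X M) W) (w : W.left) :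
    valAt (s + t) w = valAt s w + valAt t w := by
  obtain ⟨Z₁, h₁, z₁, m₁, hz₁, e₁⟩ := exists_cst s w
  obtain ⟨Z₂, h₂, z₂, m₂, hz₂, e₂⟩ := exists_cst t w
  obtain ⟨T, a, b, t₀, hab, hta⟩ := exists_refinement h₁ h₂ z₁ z₂ (hz₁.trans hz₂.symm)
  have f₁ : rs _ (a ≫ h₁) s = cst T m₁ := by rw [← EtFLC.res_res, e₁, res_cst]
  have f₂ : rs _ (a ≫ h₁) t = cst T m₂ := by rw [hab, ← EtFLC.res_res, e₂, res_cst]
  have f₃ : rs _ (a ≫ h₁) (s + t) = cst T (m₁ + m₂) := by rw [map_add, f₁, f₂, cst_add]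
  have hw : (a ≫ h₁).left t₀ = w := by rw [EtFLC.comp_left_apply, hta, hz₁]
  rw [← hw, valAt_eq t₀ f₁, valAt_eq t₀ f₂, valAt_eq t₀ f₃]

theorem valAt_zero (W : X.Etale) (w : W.left) :
    valAt (0 : EtCoh.sect (EtCoh.const X M) W) w = 0 := by
  have := valAt_add (0 : EtCoh.sect (EtCoh.const X M) W) 0 w
  rw [add_zero] at this
  exact left_eq_add.1 this

/-- every locally constant function is the value function of a section -/
theorem exists_of_locConst (W : X.Etale) (φ : W.left → M) (hφ : IsLocallyConstant φ) :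
    ∃ s : EtCoh.sect (EtCoh.const X M) W, ∀ w, valAt s w = φ w := by
  let O : M → W.left.Opens := fun m => ⟨φ ⁻¹' {m}, hφ.isOpen_fiber m⟩
  obtain ⟨z, hz⟩ := glue_opens (EtCoh.const X M) W O ⊤ (fun _ => le_top) (fun x _ => ⟨φ x, rfl⟩)
    (fun m => cst _ m) (fun i j => by
      rw [res_cst, res_cst]
      refine ext_val fun η => ?_
      rw [valAt_cst, valAt_cst]
      exact ((η.2.1 : φ η.1 = i)).symm.trans η.2.2)
  let k : W ⟶ sub W ⊤ := MorphismProperty.Over.homMk
    (IsOpenImmersion.lift (⊤ : W.left.Opens).ι (𝟙 W.left) (fun x _ => ⟨⟨x, trivial⟩, rfl⟩))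
    ((Category.assoc _ (⊤ : W.left.Opens).ι W.hom).symm.trans
      ((congrArg (fun j => j ≫ W.hom) (IsOpenImmersion.lift_fac (⊤ : W.left.Opens).ι (𝟙 W.left) _)).trans
        (Category.id_comp _)))
  have hk : k ≫ subι W ⊤ = 𝟙 W := by
    apply MorphismProperty.Over.Hom.ext
    exact IsOpenImmersion.lift_fac _ _ _
  refine ⟨rs _ k z, fun w => ?_⟩
  let p : (sub W (O (φ w))).left := (⟨w, rfl⟩ : (O (φ w)).toScheme)
  have hp : k.left w = (subLe W (le_top : O (φ w) ≤ ⊤)).left p := by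
    apply (⊤ : W.left.Opens).ι.isOpenEmbedding.injective
    show (k ≫ subι W ⊤).left w = (subLe W (le_top : O (φ w) ≤ ⊤) ≫ subι W ⊤).left p
    rw [hk, subLe_ι]
    rfl
  rw [valAt_res, hp, ← valAt_res, hz, valAt_cst]

end Groth.Agent.EtEmbFin
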