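import Mathlib
import Groth.Agent.EtEmbFin.LocConst
import Groth.Agent.EtCons.IndCons

/-!
Direct images of constant sheaves along a cofiltered limit of finite schemes.
-/

universe u

open CategoryTheory CategoryTheory.Limits AlgebraicGeometry Opposite

set_option backward.isDefEq.respectTransparency false
set_option backward.isDefEq.respectTransparency.types false

noncomputable section

namespace Groth.Agent.EtEmbFin

open Groth.Agent.EtMV

/-- Restriction of sections. -/
local notation "rs" => Groth.Agent.EtFLC.res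

section LocConst

variable {I : Type u} [SmallCategory I] [IsCofiltered I] {D : I ⥤ Scheme.{u}} {c : Cone D} (hc : IsLimit c)
  [∀ {i j} (f : i ⟶ j), IsAffineHom (D.map f)] [∀ i, CompactSpace (D.obj i)] [∀ i, QuasiSeparatedSpace (D.obj i)]

theorem exists_common {ι : Type*} [Finite ι] {i : I} (k : ι → I) (q : ∀ a, k a ⟶ i) :
    ∃ (m : I) (r : m ⟶ i), ∀ a, ∃ p : m ⟶ k a, p ≫ q a = r := by
  classical
  haveI := Fintype.ofFinite ι
  suffices ∀ s : Finset ι, ∃ (m : I) (r : m ⟶ i), ∀ a ∈ s, ∃ p : m ⟶ k a, p ≫ q a = r by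
    obtain ⟨m, r, hr⟩ := this Finset.univ
    exact ⟨m, r, fun a => hr a (Finset.mem_univ a)⟩
  intro s
  induction s using Finset.induction with
  | empty => exact ⟨i, 𝟙 i, fun a ha => absurd ha (Finset.notMem_empty a)⟩
  | insert a T _ ih =>
    obtain ⟨m, r, hr⟩ := ih
    obtain ⟨l, p₁, p₂, e⟩ := IsCofiltered.cospan r (q a)
    refine ⟨l, p₁ ≫ r, fun a' ha' => ?_⟩
    rcases Finset.mem_insert.1 ha' with rfl | ha'
    · exact ⟨p₂, e.symm⟩
    · obtain ⟨p, hp⟩ := hr a' ha'
      exact ⟨p₁ ≫ p, by rw [Category.assoc, hp]⟩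

include hc in
theorem exists_locConst_stage {M : Type*} [Finite M] (φ : c.pt → M) (hφ : IsLocallyConstant φ) :
    ∃ (i : I) (ψ : D.obj i → M), IsLocallyConstant ψ ∧ ∀ x, ψ (c.π.app i x) = φ x := by
  classical
  haveI : CompactSpace c.pt := Scheme.compactSpace_of_isLimit D c hc
  let F : M → c.pt.Opens := fun m => ⟨φ ⁻¹' {m}, hφ.isOpen_fiber m⟩
  have h1 : ∀ m : M, ∃ (i : I) (V : (D.obj i).Opens), IsCompact (V : Set (D.obj i)) ∧
      c.π.app i ⁻¹ᵁ V = F m := fun m =>
    exists_preimage_eq D c hc (F m) (hφ.isClosed_fiber m).isCompact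
  choose i V hVc hV using h1
  haveI := Fintype.ofFinite M
  obtain ⟨k, hk⟩ := IsCofiltered.inf_objs_exists (Finset.univ.image i)
  let q : ∀ m, k ⟶ i m := fun m => (hk (Finset.mem_image_of_mem i (Finset.mem_univ m))).some
  let O : M → (D.obj k).Opens := fun m => D.map (q m) ⁻¹ᵁ V m
  have hOc : ∀ m, IsCompact (O m : Set (D.obj k)) := fun m => (D.map (q m)).isCompact_preimage (hVc m)
  have hO : ∀ m x, c.π.app k x ∈ O m ↔ φ x = m := by
    intro m x
    have h : c.π.app k ⁻¹ᵁ O m = F m := by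
      rw [← hV m, ← c.w (q m)]
      rfl
    exact SetLike.ext_iff.1 h x
  have hdis : ∀ p : M × M, ∃ (l : I) (r : l ⟶ k),
      p.1 ≠ p.2 → D.map r ⁻¹ᵁ (O p.1 ⊓ O p.2) = D.map r ⁻¹ᵁ ⊥ := by
    rintro ⟨m, n⟩
    by_cases hmn : m = n
    · exact ⟨k, 𝟙 k, fun h => (h hmn).elim⟩
    obtain ⟨l, r, hr⟩ := exists_map_preimage_eq_map_preimage D c hc (i := k) (U := O m ⊓ O n) (V := ⊥)
      ((hOc m).inter_of_isOpen (hOc n) (O m).2 (O n).2) isCompact_empty (by
        ext x
        simp only [TopologicalSpace.Opens.map_coe, Set.mem_preimage, SetLike.mem_coe]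
        exact ⟨fun h => (hmn (((hO m x).1 h.1).symm.trans ((hO n x).1 h.2))).elim, fun h => h.elim⟩)
    exact ⟨l, r, fun _ => hr⟩
  choose l r hr using hdis
  obtain ⟨l₀, r₀, hr₀⟩ := exists_map_eq_top D c hc (i := k) (⨆ m, O m) (by
    refine top_unique fun x _ => ?_
    show c.π.app k x ∈ (⨆ m, O m : (D.obj k).Opens)
    exact TopologicalSpace.Opens.mem_iSup.2 ⟨φ x, (hO _ x).2 rfl⟩)
  obtain ⟨t, s, hs⟩ := exists_common (fun a : Option (M × M) => a.elim l₀ l)
    (fun a => match a with | none => r₀ | some p => r p)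
  have hcov : ∀ y : D.obj t, ∃ m, D.map s y ∈ O m := by
    intro y
    obtain ⟨p, hp⟩ := hs none
    rw [← hp, Functor.map_comp, Scheme.Hom.comp_apply]
    exact TopologicalSpace.Opens.mem_iSup.1 (SetLike.ext_iff.1 hr₀ (D.map p y) |>.2 trivial)
  have huniq : ∀ (y : D.obj t) (m n : M), D.map s y ∈ O m → D.map s y ∈ O n → m = n := by
    intro y m n hm hn
    by_contra h
    obtain ⟨p, hp⟩ := hs (some (m, n))
    rw [← hp, Functor.map_comp, Scheme.Hom.comp_apply] at hm hn
    exact (SetLike.ext_iff.1 (hr (m, n) h) (D.map p y)).1 ⟨hm, hn⟩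
  choose ψ hψ using hcov
  refine ⟨t, ψ, IsLocallyConstant.iff_isOpen_fiber.2 fun m => ?_, fun x => ?_⟩
  · have : ψ ⁻¹' {m} = (D.map s ⁻¹ᵁ O m : (D.obj t).Opens) := by
      ext y
      exact ⟨fun h => (show ψ y = m from h) ▸ hψ y, fun h => huniq y _ _ (hψ y) h⟩
    rw [this]
    exact (D.map s ⁻¹ᵁ O m).2
  · refine ((hO _ x).1 ?_).symm
    have := hψ (c.π.app t x)
    rwa [← Scheme.Hom.comp_apply, c.w] at this

include hc in
theorem exists_eq_zero_stage {M : Type*} [Zero M] {i : I} (ψ : D.obj i → M) (hψ : IsLocallyConstant ψ)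
    (h : ∀ x, ψ (c.π.app i x) = 0) : ∃ (j : I) (q : j ⟶ i), ∀ y, ψ (D.map q y) = 0 := by
  obtain ⟨j, q, hq⟩ := exists_map_eq_top D c hc (i := i) ⟨ψ ⁻¹' {0}, hψ.isOpen_fiber 0⟩
    (top_unique fun x _ => h x)
  exact ⟨j, q, fun y => (SetLike.ext_iff.1 hq y).2 trivial⟩

end LocConst

section Push

variable {X : Scheme.{u}} {Y₁ Y₂ Y₃ : Scheme.{u}} {g₁ : Y₁ ⟶ X} {g₂ : Y₂ ⟶ X} {g₃ : Y₃ ⟶ X}
  (M : Type) [AddCommGroup M]

/-- the comparison of base changes to an étale `X`-scheme -/
def mapW (a : Y₂ ⟶ Y₁) (w : a ≫ g₁ = g₂) (W : X.Etale) :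
    ((EtCoh.bc g₂).obj W).left ⟶ ((EtCoh.bc g₁).obj W).left :=
  pullback.lift (pullback.fst W.hom g₂) (pullback.snd W.hom g₂ ≫ a)
    (by rw [Category.assoc, w]; exact pullback.condition)

theorem bc_map_fst {W W' : X.Etale} (k : W' ⟶ W) :
    ((EtCoh.bc g₁).map k).left ≫ pullback.fst W.hom g₁ = pullback.fst W'.hom g₁ ≫ k.left :=
  (EtCoh.isPullback_bc_map g₁ k).w

theorem bc_map_snd {W W' : X.Etale} (k : W' ⟶ W) :
    ((EtCoh.bc g₁).map k).left ≫ pullback.snd W.hom g₁ = pullback.snd W'.hom g₁ := by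
  dsimp [EtCoh.bc]
  exact pullback.lift_snd _ _ _

theorem mapW_natural (a : Y₂ ⟶ Y₁) (w : a ≫ g₁ = g₂) {W W' : X.Etale} (k : W' ⟶ W) :
    ((EtCoh.bc g₂).map k).left ≫ mapW a w W = mapW a w W' ≫ ((EtCoh.bc g₁).map k).left := by
  apply pullback.hom_ext <;> rw [Category.assoc, Category.assoc]
  · rw [mapW, pullback.lift_fst, bc_map_fst, bc_map_fst, mapW, ← Category.assoc, pullback.lift_fst]
  · rw [mapW, pullback.lift_snd, ← Category.assoc, bc_map_snd, bc_map_snd, mapW, pullback.lift_snd]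

theorem mapW_comp (a : Y₂ ⟶ Y₁) (w : a ≫ g₁ = g₂) (b : Y₃ ⟶ Y₂) (v : b ≫ g₂ = g₃) (ab : Y₃ ⟶ Y₁)
    (e : b ≫ a = ab) (W : X.Etale) :
    mapW ab (by rw [← e, Category.assoc, w, v]) W = mapW b v W ≫ mapW a w W := by
  subst e
  apply pullback.hom_ext <;> simp [mapW]

theorem exists_pullSect (a : Y₂ ⟶ Y₁) (w : a ≫ g₁ = g₂) (W : X.Etale)
    (s : EtCoh.sect (EtCoh.const Y₁ M) ((EtCoh.bc g₁).obj W)) :
    ∃ t : EtCoh.sect (EtCoh.const Y₂ M) ((EtCoh.bc g₂).obj W), ∀ x, valAt t x = valAt s (mapW a w W x) :=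
  exists_of_locConst _ _ ((isLocallyConstant_valAt s).comp_continuous (mapW a w W).continuous)

/-- pullback of sections of constant sheaves -/
def pullMap (a : Y₂ ⟶ Y₁) (w : a ≫ g₁ = g₂) :
    (EtCoh.push g₁).obj (EtCoh.const Y₁ M) ⟶ (EtCoh.push g₂).obj (EtCoh.const Y₂ M) :=
  ObjectProperty.homMk
    { app := fun W => AddCommGrpCat.ofHom
        (AddMonoidHom.mk' (fun s => (exists_pullSect M a w W.unop s).choose) (fun s t => ext_val fun x => by
          rw [valAt_add, (exists_pullSect M a w W.unop _).choose_spec, (exists_pullSect M a w W.unop _).choose_spec,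
            (exists_pullSect M a w W.unop _).choose_spec]
          exact valAt_add s t _))
      naturality := fun W W' k => by
        ext s
        refine ext_val fun x => ?_
        show valAt (exists_pullSect M a w W'.unop (rs _ ((EtCoh.bc g₁).map k.unop) s)).choose x =
          valAt (rs _ ((EtCoh.bc g₂).map k.unop) (exists_pullSect M a w W.unop s).choose) x
        rw [(exists_pullSect M a w W'.unop _).choose_spec, valAt_res, valAt_res,
          (exists_pullSect M a w W.unop _).choose_spec, ← Scheme.Hom.comp_apply, ← Scheme.Hom.comp_apply,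
          mapW_natural] }

theorem valAt_pullMap (a : Y₂ ⟶ Y₁) (w : a ≫ g₁ = g₂) (W : X.Etale)
    (s : EtCoh.sect (EtCoh.const Y₁ M) ((EtCoh.bc g₁).obj W)) (x : ((EtCoh.bc g₂).obj W).left) :
    valAt ((pullMap M a w).hom.app (op W) s) x = valAt s (mapW a w W x) :=
  (exists_pullSect M a w W s).choose_spec x

theorem pullMap_id : pullMap M (𝟙 Y₁) (Category.id_comp g₁) = 𝟙 _ := by
  apply ObjectProperty.hom_ext
  ext ⟨W⟩ s
  refine ext_val fun x => (valAt_pullMap M _ _ W s x).trans ?_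
  have : mapW (g₁ := g₁) (g₂ := g₁) (𝟙 Y₁) (Category.id_comp g₁) W = 𝟙 _ := by
    apply pullback.hom_ext
    · rw [mapW, pullback.lift_fst]; exact (Category.id_comp _).symm
    · rw [mapW, pullback.lift_snd, Category.comp_id]; exact (Category.id_comp _).symm
  rw [this]
  rfl

theorem pullMap_comp (a : Y₂ ⟶ Y₁) (w : a ≫ g₁ = g₂) (b : Y₃ ⟶ Y₂) (v : b ≫ g₂ = g₃) (ab : Y₃ ⟶ Y₁)
    (e : b ≫ a = ab) :
    pullMap M ab (by rw [← e, Category.assoc, w, v]) = pullMap M a w ≫ pullMap M b v := by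
  apply ObjectProperty.hom_ext
  ext ⟨W⟩ s
  refine ext_val fun x => (valAt_pullMap M _ _ W s x).trans ?_
  refine Eq.trans ?_ (valAt_pullMap M b v W _ x).symm
  refine Eq.trans ?_ (valAt_pullMap M a w W s _).symm
  rw [mapW_comp a w b v ab e W]
  rfl

end Push

section Colim

variable {X : Scheme.{u}} (M : Type) [AddCommGroup M] {I : Type u} [Preorder I]
  (D : Iᵒᵖ ⥤ Over X) (c : Cone D)

/-- the direct system of direct images of constant sheaves -/
def constSys : AsSmall.{u + 1} I ⥤ EtCoh.Ab X where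
  obj j := (EtCoh.push (D.obj (op (AsSmall.down.obj j))).hom).obj (EtCoh.const _ M)
  map f := pullMap M (D.map (AsSmall.down.map f).op).left (Over.w _)
  map_id j := by
    refine Eq.trans ?_ (pullMap_id M)
    congr 1
    rw [CategoryTheory.Functor.map_id, op_id, CategoryTheory.Functor.map_id]
    rfl
  map_comp f g := by
    refine pullMap_comp M _ _ _ _ _ ?_
    rw [← Over.comp_left, ← D.map_comp, ← op_comp, ← Functor.map_comp]

/-- the cocone on the direct image from the limit -/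
def constCocone : Cocone (constSys M D) where
  pt := (EtCoh.push c.pt.hom).obj (EtCoh.const _ M)
  ι :=
    { app := fun j => pullMap M (c.π.app (op (AsSmall.down.obj j))).left (Over.w _)
      naturality := fun j k f => by
        refine Eq.trans ?_ (Category.comp_id _).symm
        symm
        refine pullMap_comp M _ _ _ _ _ ?_
        rw [← Over.comp_left, c.w] }

variable [IsDirectedOrder I] [Nonempty I] (hc : IsLimit c) (hfin : ∀ i, IsFinite (D.obj i).hom)

include hc hfin in
theorem nonempty_isColimit_constCocone [Finite M] : Nonempty (IsColimit (constCocone M D c)) := by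
  haveI : IsCofiltered Iᵒᵖ := isCofiltered_op_of_isFiltered _
  haveI : CategoryTheory.IsConnected Iᵒᵖ := IsCofiltered.isConnected _
  haveI := hfin
  have hres : ∀ (U : X.Etale) (x : U.left), ∃ O : U.left.Opens, IsAffineOpen O ∧ x ∈ O := fun U x => by
    obtain ⟨_, ⟨O, hO, rfl⟩, hx, -⟩ := U.left.isBasis_affineOpens.exists_subset_of_mem_open
      (show x ∈ (⊤ : U.left.Opens) from trivial) isOpen_univ
    exact ⟨O, hO, hx⟩
  have hlim : ∀ (W : X.Etale), IsAffine W.left →
      let E : Iᵒᵖ ⥤ Scheme.{u} := D ⋙ Over.pullback W.hom ⋙ Over.forget _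
      (∀ {i j} (f : i ⟶ j), IsAffineHom (E.map f)) ∧ (∀ i, CompactSpace (E.obj i)) ∧
        (∀ i, QuasiSeparatedSpace (E.obj i)) := by
    intro W hW E
    haveI := hW
    haveI : IsAffine ((𝟭 Scheme.{u}).obj W.left) := hW
    have hp : ∀ i, IsFinite ((Over.pullback W.hom).obj (D.obj i)).hom := fun i =>
      MorphismProperty.pullback_snd (P := @IsFinite) _ _ (hfin i)
    refine ⟨fun {i j} f => ?_, fun i => ?_, fun i => ?_⟩
    · haveI := hp i
      haveI := hp j
      haveI : IsAffineHom (E.map f ≫ ((Over.pullback W.hom).obj (D.obj j)).hom) := by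
        show IsAffineHom (((Over.pullback W.hom).map (D.map f)).left ≫ _)
        rw [Over.w]
        infer_instance
      exact MorphismProperty.of_postcomp (W := @IsAffineHom) (W' := @IsSeparated) _
        ((Over.pullback W.hom).obj (D.obj j)).hom inferInstance inferInstance
    · haveI := hp i
      exact QuasiCompact.compactSpace_of_compactSpace ((Over.pullback W.hom).obj (D.obj i)).hom
    · haveI := hp i
      exact quasiSeparatedSpace_of_quasiSeparated ((Over.pullback W.hom).obj (D.obj i)).hom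
  refine EtCons.nonempty_isColimit_of_sections _ (fun U t x => ?_) fun U j s hs x => ?_
  · obtain ⟨O, hO, hxO⟩ := hres U x
    let W : X.Etale := sub U O
    obtain ⟨h1, h2, h3⟩ := hlim W hO
    let E : Iᵒᵖ ⥤ Scheme.{u} := D ⋙ Over.pullback W.hom ⋙ Over.forget _
    let d : Cone E := (Over.pullback W.hom ⋙ Over.forget _).mapCone c
    let hd : IsLimit d := isLimitOfPreserves _ hc
    haveI : ∀ {i j} (f : i ⟶ j), IsAffineHom (E.map f) := h1
    haveI : ∀ i, CompactSpace (E.obj i) := h2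
    haveI : ∀ i, QuasiSeparatedSpace (E.obj i) := h3
    let t' : EtCoh.sect (EtCoh.const c.pt.left M) ((EtCoh.bc c.pt.hom).obj W) :=
      rs _ ((EtCoh.bc c.pt.hom).map (subι U O)) t
    let σ := pullbackSymmetry W.hom c.pt.hom
    obtain ⟨i, ψ, hψ, he⟩ := exists_locConst_stage hd (fun p => valAt t' (σ.inv p))
      ((isLocallyConstant_valAt t').comp_continuous σ.inv.continuous)
    let τ := pullbackSymmetry W.hom (D.obj i).hom
    obtain ⟨s, hs⟩ := exists_of_locConst (M := M) ((EtCoh.bc (D.obj i).hom).obj W) (fun p => ψ (τ.hom p))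
      (hψ.comp_continuous τ.hom.continuous)
    refine ⟨W, subι U O, ⟨(⟨x, hxO⟩ : O.toScheme), rfl⟩, AsSmall.up.obj i.unop, s, ext_val fun p => ?_⟩
    refine (valAt_pullMap M _ (Over.w _) W s p).trans ?_
    refine (hs _).trans ?_
    have e : mapW (c.π.app i).left (Over.w (c.π.app i)) W ≫ τ.hom = σ.hom ≫ d.π.app i := by
      show _ = σ.hom ≫ ((Over.pullback W.hom).map (c.π.app i)).left
      apply pullback.hom_ext
      · simp [τ, σ, mapW]
      · simp [τ, σ, mapW]
    show ψ ((mapW (c.π.app i).left (Over.w (c.π.app i)) W ≫ τ.hom) p) = valAt t' p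
    rw [e, Scheme.Hom.comp_apply]
    refine (he _).trans ?_
    show valAt t' ((σ.hom ≫ σ.inv) p) = _
    rw [Iso.hom_inv_id]
    rfl
  · obtain ⟨O, hO, hxO⟩ := hres U x
    let W : X.Etale := sub U O
    obtain ⟨h1, h2, h3⟩ := hlim W hO
    let E : Iᵒᵖ ⥤ Scheme.{u} := D ⋙ Over.pullback W.hom ⋙ Over.forget _
    let d : Cone E := (Over.pullback W.hom ⋙ Over.forget _).mapCone c
    let hd : IsLimit d := isLimitOfPreserves _ hc
    haveI : ∀ {i j} (f : i ⟶ j), IsAffineHom (E.map f) := h1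
    haveI : ∀ i, CompactSpace (E.obj i) := h2
    haveI : ∀ i, QuasiSeparatedSpace (E.obj i) := h3
    let i : Iᵒᵖ := op (AsSmall.down.obj j)
    let s' : EtCoh.sect (EtCoh.const (D.obj i).left M) ((EtCoh.bc (D.obj i).hom).obj W) :=
      rs _ ((EtCoh.bc (D.obj i).hom).map (subι U O)) s
    have hzero : (pullMap M (c.π.app i).left (Over.w (c.π.app i))).hom.app (op W) s' = 0 := by
      have h := NatTrans.naturality_apply (pullMap M (c.π.app i).left (Over.w (c.π.app i))).hom (subι U O).op s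
      refine h.trans ?_
      exact (congrArg (fun z => ((EtCoh.push c.pt.hom).obj (EtCoh.const _ M)).obj.map (subι U O).op z) hs).trans
        (map_zero _)
    let τ := pullbackSymmetry W.hom (D.obj i).hom
    let σ := pullbackSymmetry W.hom c.pt.hom
    obtain ⟨k, q, hk⟩ := exists_eq_zero_stage hd (i := i) (fun p => valAt s' (τ.inv p))
      ((isLocallyConstant_valAt s').comp_continuous τ.inv.continuous) (fun p => by
        have e : σ.inv ≫ mapW (c.π.app i).left (Over.w (c.π.app i)) W = d.π.app i ≫ τ.inv := by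
          show _ = ((Over.pullback W.hom).map (c.π.app i)).left ≫ τ.inv
          apply pullback.hom_ext
          · simp [τ, σ, mapW]
          · simp [τ, σ, mapW]
        show valAt s' ((d.π.app i ≫ τ.inv) p) = 0
        rw [← e, Scheme.Hom.comp_apply]
        refine (valAt_pullMap M _ (Over.w (c.π.app i)) W s' (σ.inv p)).symm.trans ?_
        rw [hzero]
        exact valAt_zero _ _)
    refine ⟨W, subι U O, ⟨(⟨x, hxO⟩ : O.toScheme), rfl⟩, AsSmall.up.obj k.unop,
      AsSmall.up.map q.unop, ext_val fun p => ?_⟩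
    refine Eq.trans ?_ (valAt_zero _ p).symm
    refine (valAt_pullMap M (D.map q).left (Over.w _) W s' p).trans ?_
    let ρ := pullbackSymmetry W.hom (D.obj k).hom
    have e : mapW (D.map q).left (Over.w (D.map q)) W = ρ.hom ≫ E.map q ≫ τ.inv := by
      show _ = ρ.hom ≫ ((Over.pullback W.hom).map (D.map q)).left ≫ τ.inv
      apply pullback.hom_ext
      · simp [τ, ρ, mapW]
      · simp [τ, ρ, mapW]
    rw [e, Scheme.Hom.comp_apply, Scheme.Hom.comp_apply]
    exact hk _

end Colim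

end Groth.Agent.EtEmbFin
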