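import Mathlib
import Groth.Agent.EtMV.ConstUnit
import Groth.Agent.EtMV.NormalIrr
import Groth.Agent.NormalizationNormal.Main
import Groth.Agent.EtCons.FlcNear
import Groth.Agent.EtAcycX.ConstHens

/-!
Normalization at a geometric point and pullbacks of constructible sheaves to geometric points.
-/

universe u

open CategoryTheory CategoryTheory.Limits AlgebraicGeometry Opposite

set_option backward.isDefEq.respectTransparency false
set_option backward.isDefEq.respectTransparency.types false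

noncomputable section

namespace Groth.Agent.EtEmbFin

/-- Restriction of sections. -/
local notation "rs" => Groth.Agent.EtFLC.res

section Const

variable (Ω : Type u) [Field Ω] [IsAlgClosed Ω]

instance isSepClosed_residueField : IsSepClosed (IsLocalRing.ResidueField Ω) :=
  haveI := IsAlgClosed.of_ringEquiv Ω (IsLocalRing.ResidueField Ω)
    (RingEquiv.ofBijective (IsLocalRing.residue Ω) ⟨(IsLocalRing.residue Ω).injective, IsLocalRing.residue_surjective⟩)
  inferInstance

theorem isLocallyConstant_of_algClosed (G : EtCoh.Ab (Spec (CommRingCat.of Ω))) : EtRest.IsLocallyConstant G := by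
  refine (EtFLC.isLC_iff G).2 fun x => ?_
  haveI : Subsingleton (Spec (CommRingCat.of Ω)) := inferInstanceAs (Subsingleton (PrimeSpectrum Ω))
  have hsec : ∀ (V : (Spec (CommRingCat.of Ω)).Etale) (v : V.left),
      ∃ (a : EtCoh.top (Spec (CommRingCat.of Ω)) ⟶ V), v ∈ Set.range a.left := by
    intro V v
    obtain ⟨y, hy⟩ := Scheme.pointSmallEtaleFiberObjToPreimage_surjective (EtHens.pt Ω)
      (Subsingleton.elim (EtHens.pt Ω (default : Spec (CommRingCat.of (IsLocalRing.ResidueField Ω)))) (V.hom v)) V ⟨v, rfl⟩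
    obtain ⟨a, ha⟩ := EtHens.exists_factor Ω V y
    refine ⟨a, EtHens.pt Ω (default : Spec (CommRingCat.of (IsLocalRing.ResidueField Ω))), ?_⟩
    have := congrArg (fun k => k.left (default : Spec (CommRingCat.of (IsLocalRing.ResidueField Ω)))) ha
    exact this.trans (congrArg Subtype.val hy)
  refine ⟨EtCoh.top _, x, EtCoh.sect G (EtCoh.top _), inferInstance, AddMonoidHom.id _, rfl, ⟨fun {V} g s v => ?_,
    fun {V} g m hm v => ?_⟩⟩
  · obtain ⟨a, w, hw⟩ := hsec V v
    refine ⟨EtCoh.top _, a, w, EtFLC.res G a s, hw, ?_⟩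
    rw [(EtCore.topIsTerminal _).hom_ext (a ≫ g) (𝟙 _)]
    exact (EtFLC.res_id G _).symm
  · obtain ⟨a, -, -⟩ := hsec V v
    have := congrArg (EtFLC.res G a) hm
    rw [EtFLC.res_res, map_zero, (EtCore.topIsTerminal _).hom_ext (a ≫ g) (𝟙 _)] at this
    exact (EtFLC.res_id G m).symm.trans this

theorem exists_iso_const_pull {X : Scheme.{u}} {F : EtCoh.Ab X} (hF : EtPBC.IsConstructible F)
    (ξ : Spec (CommRingCat.of Ω) ⟶ X) :
    ∃ (M : Type) (_ : AddCommGroup M) (_ : Finite M),
      Nonempty ((EtCoh.pull ξ).obj F ≅ EtCoh.const (Spec (CommRingCat.of Ω)) M) := by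
  let G := (EtCoh.pull ξ).obj F
  obtain ⟨M₀, ⟨e⟩⟩ := EtAcycX.exists_iso_constB (R := Ω) G (isLocallyConstant_of_algClosed Ω G)
  haveI := EtCons.finite_stalk_of_isConstructible F hF (EtHens.pt Ω ≫ ξ)
  haveI : Finite ((EtCoh.stalk (EtHens.pt Ω)).obj G) :=
    Finite.of_equiv _ ((EtStalk.stalkPullIso ξ (EtHens.pt Ω)).app F).addCommGroupIsoToAddEquiv.toEquiv
  haveI : Finite (EtCoh.sect G (EtCoh.top _)) :=
    @Finite.of_injective _ _ ‹Finite ((EtCoh.stalk (EtHens.pt Ω)).obj G)› _ (EtHens.bijective_germ Ω G).1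
  haveI : Finite (EtCoh.sect (EtAcycX.constB (Spec (CommRingCat.of Ω)) M₀) (EtCoh.top _)) :=
    @Finite.of_equiv _ _ ‹Finite (EtCoh.sect G (EtCoh.top _))›
      (((sheafToPresheaf _ _ ⋙ (evaluation _ _).obj (op (EtCoh.top _))).mapIso e)).addCommGroupIsoToAddEquiv.toEquiv
  haveI : Finite M₀ := @Finite.of_injective _ _ ‹Finite (EtCoh.sect (EtAcycX.constB (Spec (CommRingCat.of Ω)) M₀) (EtCoh.top _))› _ (EtAcycX.constTop_henselian Ω M₀).1
  haveI : Small.{0} M₀ := Countable.toSmall M₀
  refine ⟨Shrink.{0} M₀, inferInstance, Finite.of_equiv _ (equivShrink M₀), ⟨e ≪≫ ?_⟩⟩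
  exact (constantSheaf _ AddCommGrpCat.{u + 1}).mapIso
    (AddEquiv.toAddCommGrpIso ((Shrink.addEquiv (α := M₀)).symm.trans AddEquiv.ulift.symm))

end Const

section Mono

variable {Y X : Scheme.{u}} (f : Y ⟶ X) [QuasiCompact f] [QuasiSeparated f]

theorem mono_toNormalization {U : X.Opens} (hU : IsAffineOpen U) (htop : f ⁻¹ᵁ U = ⊤)
    (haff : IsAffineOpen (f ⁻¹ᵁ U))
    (hden : letI := (f.app U).hom.toAlgebra
      ∀ a : Γ(Y, f ⁻¹ᵁ U), ∃ c : Γ(Y, f ⁻¹ᵁ U), IsUnit c ∧ IsIntegral Γ(X, U) c ∧ IsIntegral Γ(X, U) (c * a)) :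
    Mono f.toNormalization := by
  letI := (f.app U).hom.toAlgebra
  let φ := CommRingCat.ofHom (integralClosure Γ(X, U) Γ(Y, f ⁻¹ᵁ U)).val.toRingHom
  haveI : Epi φ := by
    refine ⟨fun {S} g h e => CommRingCat.hom_ext (RingHom.ext fun a => ?_)⟩
    obtain ⟨c, hc, hci, hcai⟩ := hden a
    have h1 : g.hom c = h.hom c := ConcreteCategory.congr_hom e ⟨c, hci⟩
    have h2 : g.hom (c * a) = h.hom (c * a) := ConcreteCategory.congr_hom e ⟨c * a, hcai⟩
    rw [map_mul, map_mul, ← h1] at h2
    exact (hc.map g.hom).mul_left_cancel h2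
  haveI : Mono (Spec.map φ) := inferInstanceAs (Mono (Scheme.Spec.map φ.op))
  haveI : IsAffine (f ⁻¹ᵁ U : Scheme.{u}) := haff
  have hm : Mono ((f ⁻¹ᵁ U).ι ≫ f.toNormalization) := by
    rw [f.ι_toNormalization ⟨U, hU⟩]
    haveI : IsIso (f ⁻¹ᵁ U).toSpecΓ := by rw [← haff.isoSpec_hom]; infer_instance
    haveI : Mono (f.normalizationOpenCover.f ⟨U, hU⟩) := inferInstance
    exact mono_comp _ _
  haveI : IsIso (f ⁻¹ᵁ U).ι := by rw [htop]; exact inferInstanceAs (IsIso Y.topIso.hom)
  have : f.toNormalization = inv (f ⁻¹ᵁ U).ι ≫ ((f ⁻¹ᵁ U).ι ≫ f.toNormalization) := by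
    rw [IsIso.inv_hom_id_assoc]
  rw [this]
  exact mono_comp _ _

end Mono

section Residue

theorem exists_denominator {A K Ω : Type*} [CommRing A] [Field K] [Field Ω] [Algebra A K] [Algebra K Ω]
    [Algebra A Ω] [IsScalarTower A K Ω] (hK : ∀ k : K, ∃ r s : A, algebraMap A K s ≠ 0 ∧ k * algebraMap A K s = algebraMap A K r)
    (a : Ω) (ha : IsIntegral K a) : ∃ c : A, algebraMap A K c ≠ 0 ∧ IsIntegral A (algebraMap A Ω c * a) := by
  classical
  obtain ⟨p, hp, hpa⟩ := ha
  choose r s hs hrs using hK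
  let c := ∏ i ∈ Finset.range p.natDegree, s (p.coeff i)
  have hc : algebraMap A K c ≠ 0 := by
    rw [map_prod]
    exact Finset.prod_ne_zero_iff.2 fun i _ => hs _
  refine ⟨c, hc, ?_⟩
  let q := p.scaleRoots (algebraMap A K c)
  have hq : q ∈ Polynomial.lifts (algebraMap A K) := by
    refine (Polynomial.lifts_iff_coeff_lifts q).2 fun i => ?_
    rw [Polynomial.coeff_scaleRoots]
    rcases lt_trichotomy i p.natDegree with h | rfl | h
    · obtain ⟨d, hd⟩ := Finset.dvd_prod_of_mem (fun i => s (p.coeff i)) (Finset.mem_range.2 h)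
      obtain ⟨e, he⟩ : ∃ e, p.natDegree - i = e + 1 := ⟨p.natDegree - i - 1, by omega⟩
      refine ⟨r (p.coeff i) * d * c ^ e, ?_⟩
      rw [map_mul, map_mul, ← hrs, map_pow, he, pow_succ, show algebraMap A K c = _ from congrArg _ hd, map_mul]
      ring
    · exact ⟨1, by simp [hp.coeff_natDegree]⟩
    · exact ⟨0, by simp [Polynomial.coeff_eq_zero_of_natDegree_lt h]⟩
  obtain ⟨q', hq', -, hq'm⟩ := Polynomial.lifts_and_degree_eq_and_monic hq ((Polynomial.monic_scaleRoots_iff _).2 hp)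
  refine ⟨q', hq'm, ?_⟩
  rw [← Polynomial.aeval_def, ← Polynomial.aeval_map_algebraMap K, hq', IsScalarTower.algebraMap_apply A K Ω]
  exact Polynomial.scaleRoots_aeval_eq_zero hpa

theorem exists_fraction_residue {X : Scheme.{u}} {U : X.Opens} (hU : IsAffineOpen U) (x : X) (hx : x ∈ U)
    (k : X.residueField x) : ∃ r s : Γ(X, U), (X.presheaf.germ U x hx ≫ X.residue x) s ≠ 0 ∧
      k * (X.presheaf.germ U x hx ≫ X.residue x) s = (X.presheaf.germ U x hx ≫ X.residue x) r := by
  obtain ⟨z, rfl⟩ := X.residue_surjective x k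
  letI := X.presheaf.algebra_section_stalk (⟨x, hx⟩ : U)
  haveI := hU.isLocalization_stalk ⟨x, hx⟩
  obtain ⟨⟨r, s⟩, hrs⟩ := IsLocalization.surj (hU.primeIdealOf ⟨x, hx⟩).asIdeal.primeCompl z
  refine ⟨r, s.1, ?_, ?_⟩
  · exact ((IsLocalization.map_units _ s).map (X.residue x).hom).ne_zero
  · show X.residue x z * X.residue x (X.presheaf.germ U x hx s.1) = X.residue x (X.presheaf.germ U x hx r)
    rw [← map_mul]
    exact congrArg _ hrs

end Residue

variable {X : Scheme.{u}} (x : X)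

/-- an algebraic closure of the residue field -/
abbrev Ωx : Type u := AlgebraicClosure (X.residueField x)

/-- the geometric point -/
def ξx : Spec (CommRingCat.of (Ωx x)) ⟶ X :=
  Spec.map (CommRingCat.ofHom (algebraMap (X.residueField x) (Ωx x))) ≫ X.fromSpecResidueField x

theorem ξx_apply (p : Spec (CommRingCat.of (Ωx x))) : ξx x p = x :=
  Scheme.fromSpecResidueField_apply x _

instance [QuasiSeparatedSpace X] : QuasiCompact (ξx x) := inferInstance

theorem isNormal_spec_field (K : Type u) [Field K] : Pi1.IsNormalScheme (Spec (CommRingCat.of K)) := fun p => by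
  haveI : Subsingleton (Spec (CommRingCat.of K)) := inferInstanceAs (Subsingleton (PrimeSpectrum K))
  obtain rfl : p = genericPoint (Spec (CommRingCat.of K)) := Subsingleton.elim _ _
  letI : Field ((Spec (CommRingCat.of K)).presheaf.stalk (genericPoint (Spec (CommRingCat.of K)))) :=
    inferInstanceAs (Field (Spec (CommRingCat.of K)).functionField)
  exact ⟨inferInstance, inferInstance⟩

variable [QuasiSeparatedSpace X]

theorem mono_toNormalization_ξx : Mono (ξx x).toNormalization := by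
  obtain ⟨_, ⟨U, hU, rfl⟩, hx, -⟩ := X.isBasis_affineOpens.exists_subset_of_mem_open
    (show x ∈ (⊤ : X.Opens) from trivial) isOpen_univ
  have htop : ξx x ⁻¹ᵁ U = ⊤ := top_unique fun p _ => by
    show ξx x p ∈ U
    rw [ξx_apply]; exact hx
  let ψ : Γ(X, U) ⟶ CommRingCat.of (Ωx x) :=
    (X.presheaf.germ U x hx ≫ X.residue x) ≫ CommRingCat.ofHom (algebraMap (X.residueField x) (Ωx x))
  have hξ : ξx x = Spec.map ψ ≫ hU.fromSpec := by
    rw [ξx, Scheme.fromSpecResidueField, ← hU.fromSpecStalk_eq_fromSpecStalk hx, IsAffineOpen.fromSpecStalk]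
    simp only [ψ, Spec.map_comp, Category.assoc]
  let T : (Spec (CommRingCat.of (Ωx x))).Opens := ξx x ⁻¹ᵁ U
  let ε : CommRingCat.of (Ωx x) ⟶ Γ(Spec (CommRingCat.of (Ωx x)), T) :=
    (Scheme.ΓSpecIso _).inv ≫ (Spec (CommRingCat.of (Ωx x))).presheaf.map (homOfLE (le_top : T ≤ ⊤)).op
  have hε : IsIso ε := by
    haveI : IsIso (homOfLE (le_top : T ≤ ⊤)) := ⟨homOfLE htop.ge, rfl, rfl⟩
    infer_instance
  have happ : (ξx x).app U = ψ ≫ ε := by
    show (ξx x).app U = ψ ≫ _
    have := Scheme.Hom.congr_app hξ U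
    rw [this]
    simp only [Scheme.Hom.comp_app, hU.fromSpec_app_self, Category.assoc, ε]
    rw [Scheme.Hom.naturality_assoc, ← Category.assoc ψ, Scheme.ΓSpecIso_inv_naturality ψ]
    simp only [Category.assoc, ← Functor.map_comp]
    rfl
  refine mono_toNormalization (ξx x) hU htop (by rw [htop]; exact isAffineOpen_top _) ?_
  letI := ((ξx x).app U).hom.toAlgebra
  intro a
  letI : Algebra Γ(X, U) (X.residueField x) := (X.presheaf.germ U x hx ≫ X.residue x).hom.toAlgebra
  let εe : Ωx x ≃+* Γ(Spec (CommRingCat.of (Ωx x)), T) := (@asIso _ _ _ _ ε hε).commRingCatIsoToRingEquiv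
  let εa : Ωx x →ₐ[Γ(X, U)] Γ(Spec (CommRingCat.of (Ωx x)), T) :=
    { εe.toRingHom with
      commutes' := fun r => (congrArg εe (IsScalarTower.algebraMap_apply Γ(X, U) (X.residueField x) (Ωx x) r)).trans
        (ConcreteCategory.congr_hom happ r).symm }
  obtain ⟨b, rfl⟩ := εe.surjective a
  obtain ⟨c, hc, hci⟩ := exists_denominator (fun k => exists_fraction_residue hU x hx k) b
    (Algebra.IsIntegral.isIntegral (R := X.residueField x) b)
  refine ⟨εa (algebraMap Γ(X, U) (Ωx x) c), ?_, (isIntegral_algebraMap).map εa, ?_⟩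
  · refine (isUnit_iff_ne_zero.2 ?_).map εa
    rw [IsScalarTower.algebraMap_apply Γ(X, U) (X.residueField x) (Ωx x)]
    exact (map_ne_zero _).2 hc
  · have := hci.map εa
    rwa [map_mul] at this

theorem irrNhd_normalization_ξx : EtMV.IrrNhd (ξx x).normalization := by
  haveI : Subsingleton (Spec (CommRingCat.of (Ωx x))) := inferInstanceAs (Subsingleton (PrimeSpectrum (Ωx x)))
  exact EtMV.irrNhd_of_normal fun z => (NormalizationNormal.isNormal_normalization (ξx x) (isNormal_spec_field _)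
    (locallyFinite_of_finite _) z).2

theorem toNormalization_genericPoint :
    (ξx x).toNormalization (genericPoint (Spec (CommRingCat.of (Ωx x)))) = genericPoint (ξx x).normalization := by
  haveI : Subsingleton (Spec (CommRingCat.of (Ωx x))) := inferInstanceAs (Subsingleton (PrimeSpectrum (Ωx x)))
  refine IsGenericPoint.eq ?_ (genericPoint_spec (ξx x).normalization)
  rw [IsGenericPoint, ← (ξx x).toNormalization.denseRange.closure_range]
  congr 1
  exact Set.eq_of_subset_of_subset (by rintro _ rfl; exact ⟨_, rfl⟩)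
    (by rintro _ ⟨p, rfl⟩; rw [Set.mem_singleton_iff, Subsingleton.elim p])

end Groth.Agent.EtEmbFin
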