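import Groth.Agent.S7382
import Groth.Agent.EtEmbFin.Limit
import Groth.Agent.EtEmbFin.Point
import Groth.Agent.EtCons.PushFinite
import Groth.Agent.EtCons.Supp
import Groth.Agent.EtCons.Compact1

/-!
Constructible sheaves embed in finite direct images of constant sheaves.
-/

universe u

open CategoryTheory CategoryTheory.Limits AlgebraicGeometry Opposite Topology

set_option backward.isDefEq.respectTransparency false
set_option backward.isDefEq.respectTransparency.types false

noncomputable section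

namespace Groth.Agent.EtEmbFin

variable {X : Scheme.{u}} [CompactSpace X] [QuasiSeparatedSpace X] {F : EtCoh.Ab X}

theorem exists_map_point (hF : EtPBC.IsConstructible F) (x : X) :
    ∃ (Y : Scheme.{u}) (f : Y ⟶ X) (_ : IsFinite f) (_ : LocallyOfFinitePresentation f) (M : Type)
      (_ : AddCommGroup M) (_ : Finite M) (β : F ⟶ (EtCoh.push f).obj (EtCoh.const Y M)),
      x ∉ EtPBC.supp (kernel β) := by
  obtain ⟨M, iM, fM, ⟨α⟩⟩ := exists_iso_const_pull (Ωx x) hF (ξx x)
  let Z := (ξx x).normalization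
  let η : Spec (CommRingCat.of (Ωx x)) ⟶ Z := (ξx x).toNormalization
  let g : Z ⟶ X := (ξx x).fromNormalization
  haveI : Mono η := mono_toNormalization_ξx x
  haveI := EtMV.isIso_unit_const (M := M) (irrNhd_normalization_ξx x) η (toNormalization_genericPoint x)
  let e1 : EtCoh.const Z M ≅ (EtCoh.push η).obj (EtCoh.const (Spec (CommRingCat.of (Ωx x))) M) :=
    asIso ((EtCoh.pullPushAdj η).unit.app (EtCoh.const Z M)) ≪≫ (EtCoh.push η).mapIso (EtCore.pullConst η M)
  let e2 : (EtCoh.push (ξx x)).obj (EtCoh.const (Spec (CommRingCat.of (Ωx x))) M) ≅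
      (EtCoh.push g).obj (EtCoh.const Z M) :=
    (EtCoh.pushCongr (ξx x).toNormalization_fromNormalization).symm.app _ ≪≫ (EtCoh.pushComp g η).symm.app _ ≪≫
      (EtCoh.push g).mapIso e1.symm
  let ι : F ⟶ (EtCoh.push g).obj (EtCoh.const Z M) :=
    ((EtCoh.pullPushAdj (ξx x)).homEquiv _ _ α.hom) ≫ e2.hom
  obtain ⟨I, _, hdir, _, D, c, hc, hfin, ⟨e⟩⟩ := S7382.result g
  haveI : IsDirectedOrder I := hdir
  let c' : Cone D := c.extend e.inv
  have hc' : IsLimit c' := hc.extendIso e.inv
  obtain ⟨hcol⟩ := nonempty_isColimit_constCocone M D c' hc' (fun i => (hfin i).1)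
  obtain ⟨j, β, hβ⟩ := EtCons.Big.exists_lift_of_constructible (c := constCocone M D c') hcol hF (ι : F ⟶ (constCocone M D c').pt)
  let i : Iᵒᵖ := op (AsSmall.down.obj j)
  haveI : IsFinite (D.obj i).hom := (hfin i).1
  haveI : LocallyOfFinitePresentation (D.obj i).hom := (hfin i).2
  let β' : F ⟶ (EtCoh.push (D.obj i).hom).obj (EtCoh.const (D.obj i).left M) := β
  refine ⟨_, (D.obj i).hom, inferInstance, inferInstance, M, iM, fM, β', fun ⟨Ω, _, _, ξ', hr, hnz⟩ => hnz ?_⟩
  have hK : EtPBC.IsConstructible (kernel β') :=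
    (EtCons.isConstructible_kernel_cokernel β' hF
      (EtCons.isConstructible_push _ (EtCons.isConstructible_const M))).1
  refine EtCons.stalk_zero_indep hK (ξx x) ξ' ?_ ?_
  · rw [ξx_apply]
    exact (Set.mem_singleton_iff.1 (hr ▸ ⟨default, rfl⟩)).symm
  haveI : PreservesFiniteLimits (EtCoh.pull (ξx x)) := inferInstance
  have h0 : kernel.ι β' ≫ ι = 0 := by
    rw [← hβ, ← Category.assoc]
    show (kernel.ι β' ≫ β') ≫ _ = 0
    rw [kernel.condition, zero_comp]
  have h1 : kernel.ι β' ≫ (EtCoh.pullPushAdj (ξx x)).homEquiv _ _ α.hom = 0 := by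
    rw [← cancel_mono e2.hom, zero_comp, Category.assoc]
    exact h0
  have h2 : (EtCoh.pull (ξx x)).map (kernel.ι β') ≫ α.hom = 0 := by
    apply ((EtCoh.pullPushAdj (ξx x)).homEquiv _ _).injective
    rw [Adjunction.homEquiv_naturality_left, h1]
    simp [Adjunction.homEquiv_unit]
  have h3 : (EtCoh.pull (ξx x)).map (kernel.ι β') = 0 := by
    rw [← cancel_mono α.hom, h2, zero_comp]
  have h4 : IsZero ((EtCoh.pull (ξx x)).obj (kernel β')) := by
    rw [IsZero.iff_id_eq_zero]
    rw [← cancel_mono ((EtCoh.pull (ξx x)).map (kernel.ι β')), Category.id_comp, zero_comp, h3]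
  exact (Functor.map_isZero (EtCoh.stalk (𝟙 (Spec (CommRingCat.of (Ωx x))))) h4).of_iso
    ((EtStalk.stalkPullIso (ξx x) (𝟙 _)).app (kernel β') ≪≫ Iso.refl _) |>.of_iso
      (eqToIso (by rw [Category.id_comp]))

theorem exists_embedding (hF : EtPBC.IsConstructible F) :
    ∃ (n : ℕ) (Y : Fin n → Scheme.{u}) (f : ∀ i, Y i ⟶ X) (_ : ∀ i, IsFinite (f i))
      (_ : ∀ i, LocallyOfFinitePresentation (f i)) (M : Fin n → Type) (_ : ∀ i, AddCommGroup (M i))
      (_ : ∀ i, Finite (M i)),
      ∃ (ι : F ⟶ ⨁ fun i => (EtCoh.push (f i)).obj (EtCoh.const (Y i) (M i))), Mono ι := by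
  classical
  choose Y f hf hf' M iM fM β hβ using fun x : X => exists_map_point hF x
  have hK : ∀ x, IsLocallyConstructible (EtPBC.supp (kernel (β x))) := fun x => by
    haveI := hf x; haveI := hf' x; haveI := fM x
    exact EtCons.isLocallyConstructible_supp (EtCons.isConstructible_kernel_cokernel (β x) hF
      (EtCons.isConstructible_push _ (EtCons.isConstructible_const (M x)))).1
  obtain ⟨s, hs⟩ := EtCons.finite_subcover_cons (fun x => (EtPBC.supp (kernel (β x)))ᶜ)
    (fun x => ConsTop.isLocallyConstructible_compl (hK x)) (fun x => ⟨x, hβ x⟩)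
  let p : Fin s.card → X := fun i => (s.equivFin.symm i).1
  refine ⟨s.card, fun i => Y (p i), fun i => f (p i), fun i => hf _, fun i => hf' _, fun i => M (p i),
    fun i => iM _, fun i => fM _, biproduct.lift fun i => β (p i), ?_⟩
  let L := biproduct.lift fun i => β (p i)
  refine Preadditive.mono_of_isZero_kernel _ (Recoll.isZero_of_stalks _ fun Ω _ _ ξ => ?_)
  obtain ⟨x, hx, hξx⟩ := hs (ξ (default : Spec (CommRingCat.of Ω)))
  let i : Fin s.card := s.equivFin ⟨x, hx⟩
  have hi : p i = x := by simp [p, i]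
  have hk : kernel.ι L ≫ β (p i) = 0 := by
    rw [show β (p i) = L ≫ biproduct.π _ i from (biproduct.lift_π (fun i => β (p i)) i).symm, kernel.condition_assoc, zero_comp]
  let j : kernel L ⟶ kernel (β (p i)) := kernel.lift _ (kernel.ι L) hk
  haveI : Mono j := mono_of_mono_fac (kernel.lift_ι _ _ hk)
  have hz : IsZero ((EtCoh.stalk ξ).obj (kernel (β (p i)))) :=
    EtCons.isZero_of_notMem_supp ξ (by rw [hi]; exact hξx)
  exact IsZero.of_mono ((EtCoh.stalk ξ).map j) hz

end Groth.Agent.EtEmbFin
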